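import Groth.Agent.L24.St.DiagLft
import Groth.Agent.L24.St.InertiaSep
import Groth.Agent.L23.EtSmLocal

/-!
The diagonal and the inertia of a stack with an etale atlas are unramified.
-/

set_option autoImplicit false
set_option backward.isDefEq.respectTransparency false
set_option backward.isDefEq.respectTransparency.types false

universe u

open CategoryTheory CategoryTheory.Limits AlgebraicGeometry Opposite AlgSt

noncomputable section

namespace Groth.L24.InertiaGen

open Groth.L24.St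

variable {S : Scheme.{u}} {𝒳 : AlgSt.Cat S}

/-- Unramified morphisms of schemes. -/
abbrev UnR : MorphismProperty Scheme.{u} := @LocallyOfFiniteType ⊓ @FormallyUnramified

/-- A property of schemes with cancellation passes from an fppf cover by a space to the absolute diagonal. -/
theorem diag_toSelf_locP_of_cover' {R : MorphismProperty Scheme.{u}} (hR : Groth.L23.EtLocal R)
    (hpost : ∀ {A B C : Scheme.{u}} (φ : A ⟶ B) (ψ : B ⟶ C), R (φ ≫ ψ) → R φ)
    (h1 : FibCat.IsFibGrpd 𝒳.p)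
    (hd : RepByAlgSp1 (FibCat.diag (FibCat.toSelf 𝒳))) {𝒲 : AlgSt.Cat S} (hW : FibCat.IsFibGrpd 𝒲.p)
    (hWr : RepByAlgSp 𝒲) {x : 𝒲 ⥤ᵇ 𝒳} (hx₁ : RepByAlgSpWith (AlgSp.LocP @Flat) x)
    (hx₂ : RepByAlgSpWith (AlgSp.LocP @LocallyOfFinitePresentation) x)
    (hx₃ : RepByAlgSpWith AlgSp.IsSurjectiveMor x) (hx : RepByAlgSpWith (AlgSp.LocP R) x) :
    RepByAlgSpWith (AlgSp.LocP R) (FibCat.diag (FibCat.toSelf 𝒳)) := by
  have hS : FibCat.IsFibGrpd (FibCat.selfOver (Over S)).p := (L09.Fib.isFibSet_id _).1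
  let t := FibCat.toSelf 𝒳
  have hz : ∀ {Q : MorphismProperty Scheme.{u}}, Groth.L23.EtLocal Q →
      RepByAlgSpWith (AlgSp.LocP Q) x → RepByAlgSpWith (AlgSp.LocP Q) (cmpMap x x t) := fun hQ h =>
    (repWith_congr (cmpMapIso x x t)).1 (fpMap_repWith hasAtlasCovers_atlasCov
      (pBase_locP hQ) (pComp_locP hQ) (isLocalOnBase_locP hQ) hW h1 hW hS h h)
  have hzf := hz Groth.L23.etLocal_flat hx₁
  have hzs : RepByAlgSpWith AlgSp.IsSurjectiveMor (cmpMap x x t) :=
    (repWith_congr (cmpMapIso x x t)).1 (repWith_surjective_of_isSurjective (L09.Fib.fp_isFibGrpd hW hW hS)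
      (L09.Fib.fp_isFibGrpd h1 h1 hS) (repWith_rep1 ((repWith_congr (cmpMapIso x x t)).2 hzf))
      (isSurjective_legs h1 hW h1 hW hS x x _ _ (isSurjective_of_repWith hW h1 hx₃)
        (isSurjective_of_repWith hW h1 hx₃)))
  refine repWith_of_fpFst_cover hasAtlasCovers_fppf (pBase_locP hR)
    (isLocalOnBase_locP_fppf hR) (fun _ _ _ h => h) h1 (L09.Fib.fp_isFibGrpd h1 h1 hS)
    (L09.Fib.fp_isFibGrpd hW hW hS) hd hzf (hz Groth.L23.etLocal_lfp hx₂) hzs ?_
  have hx' : RepByAlgSp1 (BasedFunctor.comp x t) :=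
    rep1_of_repByAlgSp hWr selfOver_repByAlgSp _
  have h2 : RepByAlgSpWith (AlgSp.LocP R) (fpPost x x t) := by
    refine repWith_of_comp_of (pBase_locP hR)
      (fun _ _ _ hX hY hZ _ _ _ h => Groth.L23.locP_of_comp hR hpost hX hY hZ h)
      (b := FibCat.fpFst (BasedFunctor.comp x t) (BasedFunctor.comp x t))
      (repWith_fpFst _ ((rep1_iff _).1 hx')) ?_
    exact repWith_fpFst x hx
  rw [← cmpLift_fst x x t] at h2
  exact (repWith_precomp (cmpLift_isEquivOver x x t) _).1 h2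

/-- An etale chart is etale on every chart. -/
theorem locP_etale_of_isEtaleMor {𝒲 𝒵 : AlgSt.Cat S} {f : 𝒲 ⥤ᵇ 𝒵}
    (hf : RepByAlgSpWith AlgSp.IsEtaleMor f) : RepByAlgSpWith (AlgSp.LocP @Etale) f := by
  intro T y
  obtain ⟨F, e, he, h⟩ := hf T y
  exact ⟨F, e, he, (Groth.L23.isEtaleMor_iff_locP F.property (AlgSp.IsAlgSpace.yon_obj T) _).1 h⟩

/-- The diagonal of a Deligne-Mumford stack is unramified. -/
theorem diag_unramified (hg : FibCat.IsFibGrpd 𝒳.p) (hd : RepByAlgSp1 (FibCat.diag (FibCat.toSelf 𝒳)))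
    (ha : HasAtlas AlgSp.IsEtaleMor 𝒳) :
    RepByAlgSpWith (AlgSp.LocP UnR) (FibCat.diag (FibCat.toSelf 𝒳)) := by
  obtain ⟨U, x, hx, hxs⟩ := ha
  have hx' := locP_etale_of_isEtaleMor hx
  exact diag_toSelf_locP_of_cover' Groth.L23.etLocal_unramified
    (fun φ ψ h => ⟨(have := h.1; locallyOfFiniteType_of_comp φ ψ), (have := h.2; FormallyUnramified.of_comp φ ψ)⟩)
    hg hd (overCat_isFibGrpd U) (overCat_repByAlgSp U)
    (repWith_mono (fun _ _ _ _ h => Groth.L23.locP_mono (fun φ (hφ : Etale φ) => have := hφ; (inferInstance : Flat φ)) h) hx')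
    (repWith_mono (fun _ _ _ _ h => Groth.L23.locP_mono
      (fun φ (hφ : Etale φ) => have := hφ; (inferInstance : LocallyOfFinitePresentation φ)) h) hx') hxs
    (repWith_mono (fun _ _ _ _ h => Groth.L23.locP_mono
      (fun φ (hφ : Etale φ) => have := hφ; ⟨inferInstance, inferInstance⟩) h) hx')

/-- Properties of the absolute diagonal pass to the inertia. -/
theorem inertia_repWith_of_diag (hg : FibCat.IsFibGrpd 𝒳.p) {P : MorphismProperty (AlgSp.Sp S)}
    (h : RepByAlgSpWith P (FibCat.diag (FibCat.toSelf 𝒳))) :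
    RepByAlgSpWith P (FibCat.inertiaToBase (FibCat.toSelf 𝒳)) := by
  have hS : FibCat.IsFibGrpd (FibCat.selfOver (Over S)).p := (L09.Fib.isFibSet_id _).1
  have := L09.Fib.isFibered_of_isFibGrpd _ hg
  have := L09.Fib.isFibered_of_isFibGrpd _ hS
  have hE := inertiaE_isEquivOver (FibCat.toSelf 𝒳) (L09.Fib.preservesStronglyCartesian_of_isFibGrpd _ hS)
  rw [show FibCat.inertiaToBase (FibCat.toSelf 𝒳) =
    BasedFunctor.comp (inertiaE (FibCat.toSelf 𝒳)) (FibCat.fpFst (FibCat.diag _) (FibCat.diag _)) from rfl]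
  exact (repWith_precomp hE _).2 (repWith_fpFst _ h)

end Groth.L24.InertiaGen
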