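import Groth.Agent.L24.Sub.OpenSub
import Groth.Agent.L24.UnivClosed.Basic

/-!
Open substacks from open sets of points without the fppf hypothesis, and images of etale charts.
-/

set_option autoImplicit false
set_option backward.isDefEq.respectTransparency false
set_option backward.isDefEq.respectTransparency.types false

universe u

open CategoryTheory CategoryTheory.Limits AlgebraicGeometry Opposite AlgSt

noncomputable section

namespace Groth.L24.InertiaGen

open Groth.L24.St Groth.L24.Sub

variable {S : Scheme.{u}} {𝒳 : AlgSt.Cat S}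

/-- The inclusion of the objects within an open set of points is an open immersion. -/
theorem isOpenImm_within_of_atlas (hg : FibCat.IsFibGrpd 𝒳.p) (ha : HasAtlas (AlgSp.LocP @Smooth) 𝒳)
    {T : Set (Points 𝒳)} (hT : IsOpen T) : IsOpenImm (subIncl 𝒳 (Within T)) := by
  intro U y
  let O : U.left.Opens := ⟨Points.ofChart y ⁻¹' T, hT.preimage (Groth.L24.UnivClosed.continuous_ofChart_of_atlas hg ha y)⟩
  let V : Over S := Over.mk (O.ι ≫ U.hom)
  let o : V ⟶ U := Over.homMk O.ι rfl
  have : Mono o := Over.mono_of_mono_left o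
  let ι := subIncl 𝒳 (Within T)
  have hmem : ∀ b, Within T ((BasedFunctor.comp (overMap o) y).obj b) := fun b =>
    (within_chart_iff hg T y _).2 fun v => (b.hom.left v).2
  let σ : FibCat.overCat V ⥤ᵇ fullSub 𝒳 (Within T) :=
    { toFunctor := ObjectProperty.lift _ (BasedFunctor.comp (overMap o) y).toFunctor hmem
      w := (BasedFunctor.comp (overMap o) y).w }
  let L := FibCat.fpLift (F := y) (G := ι) (overMap o) σ
    (show BasedFunctor.comp (overMap o) y ≅ BasedFunctor.comp σ ι from Iso.refl _)
  have hfst : (FibCat.fpFst y ι).toFunctor.Faithful := ⟨fun {η η'} {m m'} h => by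
    have h' : m.hom.fst = m'.hom.fst := h
    refine fp_ext h' ((ObjectProperty.ι (Within T)).map_injective ?_)
    rw [← cancel_epi η.obj.iso.hom]
    exact (m.hom.w.symm.trans (by rw [h'])).trans m'.hom.w⟩
  have : L.toFunctor.Faithful := ⟨fun {a b} {m m'} h =>
    Over.OverMorphism.ext (congrArg (fun k => k.hom.fst.left) h)⟩
  have : L.toFunctor.Full := ⟨fun {a b} m => by
    let t := m.hom.fst
    have ht : t.left ≫ b.hom = a.hom := by
      rw [← cancel_mono o, Category.assoc]
      exact Over.w t
    exact ⟨Over.homMk t.left ht, hfst.map_injective (Over.OverMorphism.ext rfl)⟩⟩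
  have hL : FibCat.IsEquivOver L := isEquivOver_of_overId L fun η => by
    let a : Over U := η.obj.fst
    have hQ : Within T (y.obj a) := η.obj.snd.property.of_hom η.obj.iso.hom
    have hr : Set.range a.hom.left ⊆ Set.range O.ι := by
      rintro - ⟨v, rfl⟩
      rw [Scheme.Opens.range_ι]
      exact (within_chart_iff hg T y a).1 hQ v
    let l := IsOpenImmersion.lift O.ι a.hom.left hr
    have hl : l ≫ O.ι = a.hom.left := IsOpenImmersion.lift_fac _ _ _
    let b : Over V := Over.mk (Over.homMk l (by
      show l ≫ O.ι ≫ U.hom = a.left.hom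
      rw [← Category.assoc, hl, Over.w a.hom]) : a.left ⟶ V)
    let j : (overMap o).obj b ≅ a := Over.isoMk (Iso.refl _) (by
      refine (Category.id_comp _).trans (Over.OverMorphism.ext ?_)
      exact hl.symm)
    have hj : OverId j.hom := OverId.of_eq rfl rfl
    let i : (σ.obj b).obj ≅ η.obj.snd.obj := y.toFunctor.mapIso j ≪≫ η.obj.iso
    let i' : σ.obj b ≅ η.obj.snd := ObjectProperty.isoMk _ i
    let e : L.obj b ≅ η := fpIsoMk j i' (by
      show y.map j.hom ≫ η.obj.iso.hom = 𝟙 _ ≫ (y.map j.hom ≫ η.obj.iso.hom)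
      rw [Category.id_comp])
    exact ⟨b, e, overId_fp _ hj⟩
  refine ⟨⟨(AlgSp.yon S).obj V, AlgSp.IsAlgSpace.yon_obj V⟩, BasedFunctor.comp (toOverCat V) L,
    isEquivOver_comp (toOverCat_isEquivOver V) hL, ?_⟩
  rw [show BasedFunctor.comp (BasedFunctor.comp (toOverCat V) L) (FibCat.fpFst y ι) =
    BasedFunctor.comp (toOverCat V) (overMap o) from rfl, spMapOfOver_overMap, spMapOfOver_toOverCat,
    Category.id_comp]
  exact (AlgSp.repWith_yon_map_iff @IsOpenImmersion o).2 (inferInstanceAs (IsOpenImmersion O.ι))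

/-- The image of an etale chart is an open set of points. -/
theorem isOpen_range_ofChart (hg : FibCat.IsFibGrpd 𝒳.p) {V : Over S} (x : FibCat.overCat V ⥤ᵇ 𝒳)
    (hx : RepByAlgSpWith (AlgSp.LocP @Etale) x) : IsOpen (Set.range (Points.ofChart x)) := by
  refine Points.isOpen_iff.2 fun U y _ => ?_
  obtain ⟨W, ψ, ρ, hψ, ⟨i⟩, hcov⟩ := exists_chart_square hg (x := y) hx
  have : Etale ψ.left := hψ
  have h : Points.ofChart y ⁻¹' Set.range (Points.ofChart x) = Set.range ψ.left := by
    ext t
    constructor
    · rintro ⟨v, hv⟩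
      obtain ⟨w, hw, -⟩ := hcov t v hv.symm
      exact ⟨w, hw⟩
    · rintro ⟨w, rfl⟩
      refine ⟨ρ.left w, ?_⟩
      rw [← ofChart_overMap_comp, ← ofChart_overMap_comp, ofChart_congr i]
  rw [h]
  exact ψ.left.isOpenMap.isOpen_range

end Groth.L24.InertiaGen
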