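import Groth.Agent.L24.InertiaGen.Ring
import Groth.Agent.L24.InertiaGen.Sub
import Groth.Agent.L24.InertiaGen.Diag
import Groth.Agent.L24.UnivClosed.InertiaFinite
import Groth.Agent.L24.Multi.SmoothBase
import Groth.Agent.L24.LocQ.Noetherian

/-!
Generic finite etale inertia of reduced Noetherian Deligne-Mumford stacks.
-/

set_option autoImplicit false
set_option backward.isDefEq.respectTransparency false
set_option backward.isDefEq.respectTransparency.types false

universe u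

open CategoryTheory CategoryTheory.Limits AlgebraicGeometry Opposite AlgSt

noncomputable section

namespace Groth.L24.InertiaGen

open Groth.L24.St

variable {S : Scheme.{u}} {𝒳 𝒴 : AlgSt.Cat S}

/-- Finite etale maps of spaces. -/
abbrev FinEt : MorphismProperty (AlgSp.Sp S) := AlgSp.IsFiniteMor ⊓ AlgSp.LocP @Etale

theorem pBase_finEt : PBase (FinEt : MorphismProperty (AlgSp.Sp S)) :=
  fun _ _ _ _ h1 h2 h3 h4 a b a' b' sq h =>
    ⟨pBase_affP (R := @IsFinite) h1 h2 h3 h4 a b a' b' sq h.1,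
      pBase_locP Groth.L23.etLocal_etale h1 h2 h3 h4 a b a' b' sq h.2⟩

theorem finEt_map {W T : Over S} (i : W ⟶ T) (h1 : IsFinite i.left) (h2 : Etale i.left) :
    FinEt ((AlgSp.yon S).map i) :=
  ⟨Groth.L23.isFiniteMor_iff.2 ((AlgSp.repWith_yon_map_iff _ _).2 h1),
    (Groth.L24.LocQ.locP_map_iff Groth.L23.etLocal_etale i).2 h2⟩

/-- A representing space over a scheme gives one over every scheme over it. -/
theorem wit_restrict {P : MorphismProperty (AlgSp.Sp S)} {f : 𝒳 ⥤ᵇ 𝒴} {T W : Over S}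
    {y : FibCat.overCat T ⥤ᵇ 𝒴} {F : AlgSp.Space S} {e : ofSp F.obj ⥤ᵇ FibCat.fp y f}
    (he : FibCat.IsEquivOver e) (ψ : W ⟶ T) {Q : AlgSp.Sp S} {fst : Q ⟶ F.obj} {snd : Q ⟶ (AlgSp.yon S).obj W}
    (sq : IsPullback fst snd (spMapOfOver (BasedFunctor.comp e (FibCat.fpFst y f))) ((AlgSp.yon S).map ψ))
    (hP : P snd) : Wit P (BasedFunctor.comp (overMap ψ) y) f := by
  obtain ⟨hQ, Θ, hΘ, ⟨iΘ⟩, -⟩ := Groth.L24.LocQ.exists_space_square' y e he (AlgSp.IsAlgSpace.yon_obj W) sq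
  let c := BasedFunctor.comp (ofSpMap ((AlgSp.yon S).map ψ)) (toOverCat T)
  let M := fpMap (F := BasedFunctor.comp (overMap ψ) y) (G := f)
    (F' := BasedFunctor.comp c y) (G' := f) (toOverCat W) (BasedFunctor.id _)
    (whiskerR (Groth.L24.LocQ.yonToOverIso ψ).symm y) (Iso.refl _)
  have hM : FibCat.IsEquivOver M := fpMap_isEquivOver (toOverCat_isEquivOver _) (isEquivOver_id _) _ _
  refine ⟨⟨Q, hQ⟩, BasedFunctor.comp Θ M, isEquivOver_comp hΘ hM, ?_⟩
  have h2 : spMapOfOver (BasedFunctor.comp (BasedFunctor.comp Θ M)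
      (FibCat.fpFst (BasedFunctor.comp (overMap ψ) y) f)) = snd := by
    rw [show BasedFunctor.comp (BasedFunctor.comp Θ M) (FibCat.fpFst _ f) =
      BasedFunctor.comp (BasedFunctor.comp Θ (FibCat.fpFst (BasedFunctor.comp c y) f)) (toOverCat W) from rfl,
      spMapOfOver_congr (whiskerR iΘ (toOverCat W)), spMapOfOver_ofSpMap_comp, spMapOfOver_toOverCat,
      Category.comp_id]
  rw [h2]
  exact hP

/-- Finite etale witnesses descend along etale covers. -/
theorem wit_finEt_descend {f : 𝒳 ⥤ᵇ 𝒴} (hf : RepByAlgSp1 f) {T W : Over S} (y : FibCat.overCat T ⥤ᵇ 𝒴)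
    (ψ : W ⟶ T) [Etale ψ.left] (hs : Function.Surjective ψ.left)
    (h : Wit FinEt (BasedFunctor.comp (overMap ψ) y) f) : Wit FinEt y f := by
  obtain ⟨F, e, he⟩ := hf T y
  refine ⟨F, e, he, ?_⟩
  let q := spMapOfOver (BasedFunctor.comp e (FibCat.fpFst y f))
  obtain ⟨hPs, Θ, hΘ, ⟨iΘ⟩, -⟩ := Groth.L24.LocQ.exists_space_square' y e he (AlgSp.IsAlgSpace.yon_obj W)
    (IsPullback.of_hasPullback q ((AlgSp.yon S).map ψ))
  let c := BasedFunctor.comp (ofSpMap ((AlgSp.yon S).map ψ)) (toOverCat T)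
  let M := fpMap (F := BasedFunctor.comp (overMap ψ) y) (G := f)
    (F' := BasedFunctor.comp c y) (G' := f) (toOverCat W) (BasedFunctor.id _)
    (whiskerR (Groth.L24.LocQ.yonToOverIso ψ).symm y) (Iso.refl _)
  have hM : FibCat.IsEquivOver M := fpMap_isEquivOver (toOverCat_isEquivOver _) (isEquivOver_id _) _ _
  have h1 := Wit.prop_of_equiv (fun F F' hF hF' i hi a ha =>
    pBase_finEt.iso_left hF hF' (AlgSp.IsAlgSpace.yon_obj W) i ha) h hPs (BasedFunctor.comp Θ M)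
    (isEquivOver_comp hΘ hM)
  have h2 : spMapOfOver (BasedFunctor.comp (BasedFunctor.comp Θ M)
      (FibCat.fpFst (BasedFunctor.comp (overMap ψ) y) f)) = pullback.snd q ((AlgSp.yon S).map ψ) := by
    rw [show BasedFunctor.comp (BasedFunctor.comp Θ M) (FibCat.fpFst _ f) =
      BasedFunctor.comp (BasedFunctor.comp Θ (FibCat.fpFst (BasedFunctor.comp c y) f)) (toOverCat W) from rfl,
      spMapOfOver_congr (whiskerR iΘ (toOverCat W)), spMapOfOver_ofSpMap_comp, spMapOfOver_toOverCat,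
      Category.comp_id]
  rw [h2] at h1
  have hcov : AlgSp.IsFppfCover (fun _ : PUnit.{u + 1} => (AlgSp.yon S).obj W) (fun _ => (AlgSp.yon S).map ψ) := by
    refine ⟨fun _ => ⟨(Groth.L24.LocQ.locP_map_iff Groth.L23.etLocal_flat _).2 inferInstance,
      (Groth.L24.LocQ.locP_map_iff Groth.L23.etLocal_lfp _).2 inferInstance⟩, fun x => ?_⟩
    obtain ⟨t, rfl⟩ := (AlgSp.Points.schemeEquiv T).surjective x
    obtain ⟨w, hw⟩ := hs t
    refine ⟨PUnit.unit, AlgSp.Points.schemeHomeo W w, ?_⟩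
    rw [AlgSp.Points.map_yon_map_apply, hw]
    rfl
  have hcov' := Groth.L23.isFpqcCover_of_isFppfCover (AlgSp.IsAlgSpace.yon_obj T)
    (fun _ => AlgSp.IsAlgSpace.yon_obj W) hcov
  exact ⟨(Groth.L23.isLocalOnBase_fpqc_finite _ _ (AlgSp.IsAlgSpace.yon_obj T) (fun _ => AlgSp.IsAlgSpace.yon_obj W)
      hcov' q F.property (fun _ => pullback q ((AlgSp.yon S).map ψ)) (fun _ => pullback.snd _ _)
      (fun _ => pullback.fst _ _) (fun _ => hPs) (fun _ => IsPullback.of_hasPullback _ _)).2 fun _ => h1.1,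
    (Groth.L23.isLocalOnBase_fpqc_locP Groth.L23.etLocal_etale _ _ (AlgSp.IsAlgSpace.yon_obj T)
      (fun _ => AlgSp.IsAlgSpace.yon_obj W) hcov' q F.property (fun _ => pullback q ((AlgSp.yon S).map ψ))
      (fun _ => pullback.snd _ _) (fun _ => pullback.fst _ _) (fun _ => hPs)
      (fun _ => IsPullback.of_hasPullback _ _)).2 fun _ => h1.2⟩

/-- A finite etale witness over an etale chart spreads to every object within the image of the chart. -/
theorem wit_finEt_of_range {f : 𝒳 ⥤ᵇ 𝒴} (hg : FibCat.IsFibGrpd 𝒴.p) (hf : RepByAlgSp1 f) {V : Over S}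
    (xV : FibCat.overCat V ⥤ᵇ 𝒴) (hxV : RepByAlgSpWith (AlgSp.LocP @Etale) xV) (hV : Wit FinEt xV f) {T : Over S}
    (y : FibCat.overCat T ⥤ᵇ 𝒴) (hy : ∀ t, Points.ofChart y t ∈ Set.range (Points.ofChart xV)) : Wit FinEt y f := by
  obtain ⟨W, ψ, ρ, hψ, ⟨i⟩, hcov⟩ := exists_chart_square hg (x := y) hxV
  have : Etale ψ.left := hψ
  refine wit_finEt_descend hf y ψ (fun t => ?_) ((wit_congr i (Iso.refl _)).2 ?_)
  · obtain ⟨v, hv⟩ := hy t
    obtain ⟨w, hw, -⟩ := hcov t v hv.symm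
    exact ⟨w, hw⟩
  obtain ⟨F, e, he, hP⟩ := hV
  have hW := AlgSp.IsAlgSpace.yon_obj W
  exact wit_restrict he ρ (IsPullback.of_hasPullback _ _)
    (pBase_finEt F.property (AlgSp.IsAlgSpace.yon_obj V)
      (isAlgSpace_pullback F.property hW (AlgSp.IsAlgSpace.yon_obj V) _ _) hW _ _ _ _
      (IsPullback.of_hasPullback _ _) hP)

/-- Charts of a stack of finite type over a Noetherian base are locally Noetherian. -/
theorem isLocallyNoetherian_of_chart [IsLocallyNoetherian S] (hg : FibCat.IsFibGrpd 𝒳.p)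
    (hft : AlgSt.LocQ (AlgSp.LocP @LocallyOfFiniteType) (FibCat.toSelf 𝒳)) {Z : Over S}
    {p : FibCat.overCat Z ⥤ᵇ 𝒳} (hp : RepByAlgSpWith (AlgSp.LocP @Smooth) p) : IsLocallyNoetherian Z.left := by
  obtain ⟨U, V, x, y, h, -, hx, hxs, hy, hh⟩ := hft
  have := Groth.L24.Multi.smooth_hom_of_toSelf_chart y hy
  have : LocallyOfFiniteType h.left := prop_of_locP_map hh
  have hU : LocallyOfFiniteType U.hom := by rw [← Over.w h]; infer_instance
  obtain ⟨W, ψ, ρ, hψ, hρ, hcov⟩ := exists_smooth_square hg hx hp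
  have : Surjective ρ.left := ⟨fun w => by
    obtain ⟨q, hq⟩ := isSurjective_of_repWith (overCat_isFibGrpd U) hg hxs (Points.ofChart p w)
    obtain ⟨t, rfl⟩ : ∃ t, ptOver t = q := ⟨_, ptOver_overPt q⟩
    obtain ⟨v, -, hv⟩ := hcov t w hq
    exact ⟨v, hv⟩⟩
  have : IsLocallyNoetherian U.left := LocallyOfFiniteType.isLocallyNoetherian U.hom
  have : IsLocallyNoetherian W.left := LocallyOfFiniteType.isLocallyNoetherian ψ.left
  exact Groth.L24.Alg.isLocallyNoetherian_of_fppf ρ.left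

/-- Some etale chart has finite etale inertia. -/
theorem exists_chart_finEt [IsLocallyNoetherian S] (hg : FibCat.IsFibGrpd 𝒳.p)
    (hd : RepByAlgSp1 (FibCat.diag (FibCat.toSelf 𝒳))) (ha : HasAtlas AlgSp.IsEtaleMor 𝒳)
    (hft : AlgSt.LocQ (AlgSp.LocP @LocallyOfFiniteType) (FibCat.toSelf 𝒳))
    (hΔ : AlgSt.RepByAlgSpWith AlgSp.IsAffineMor (FibCat.diag (FibCat.toSelf 𝒳)))
    (hred : AlgSt.SmoothLocally (fun T => IsReduced T) 𝒳) [Nonempty (Points 𝒳)] :
    ∃ (V : Over S) (xV : FibCat.overCat V ⥤ᵇ 𝒳), Nonempty V.left ∧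
      RepByAlgSpWith (AlgSp.LocP @Etale) xV ∧ Wit FinEt xV (FibCat.inertiaToBase (FibCat.toSelf 𝒳)) := by
  have hun := inertia_repWith_of_diag hg (diag_unramified hg hd ha)
  have haff := inertia_repWith_of_diag hg hΔ
  obtain ⟨U, x, hx, hxs⟩ := ha
  obtain ⟨q, hq⟩ := isSurjective_of_repWith (overCat_isFibGrpd U) hg hxs (Classical.arbitrary (Points 𝒳))
  let u₀ : U.left := overPtEquiv U q
  obtain ⟨_, ⟨O, hO, rfl⟩, hu₀, -⟩ := U.left.isBasis_affineOpens.exists_subset_of_mem_open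
    (Set.mem_univ u₀) isOpen_univ
  have hx' := locP_etale_of_isEtaleMor hx
  -- restriction of charts along open immersions
  have hres : ∀ {U V : Over S} (o : V ⟶ U) (x : FibCat.overCat U ⥤ᵇ 𝒳), IsOpenImmersion o.left →
      RepByAlgSpWith (AlgSp.LocP @Etale) x → RepByAlgSpWith (AlgSp.LocP @Etale) (BasedFunctor.comp (overMap o) x) :=
    fun o x ho h => repWith_comp hasAtlasCovers_atlasCov (pBase_locP Groth.L23.etLocal_etale)
      (pComp_locP Groth.L23.etLocal_etale) (isLocalOnBase_locP Groth.L23.etLocal_etale) (overCat_isFibGrpd _)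
      (overCat_isFibGrpd _) (repWith_mono (fun _ _ _ _ h => Groth.L23.locP_of_repWith Groth.L23.etLocal_etale h)
        (repWith_overMap (R := @Etale) (by have := ho; infer_instance))) h
  let U₀ : Over S := Over.mk (Scheme.Opens.ι O ≫ U.hom)
  let x₀ := BasedFunctor.comp (overMap (Over.homMk (Scheme.Opens.ι O) rfl : U₀ ⟶ U)) x
  have hx₀ : RepByAlgSpWith (AlgSp.LocP @Etale) x₀ := hres _ x (inferInstanceAs (IsOpenImmersion (Scheme.Opens.ι O))) hx'
  have hx₀s : RepByAlgSpWith (AlgSp.LocP @Smooth) x₀ := repWith_mono (fun _ _ _ _ h =>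
    Groth.L23.locP_mono (fun φ (hφ : Etale φ) => have := hφ; (inferInstance : Smooth φ)) h) hx₀
  have : IsAffine U₀.left := hO
  have : IsReduced U₀.left := hred U₀ x₀ hx₀s
  have : IsLocallyNoetherian U₀.left := isLocallyNoetherian_of_chart hg hft hx₀s
  have : Nonempty U₀.left := ⟨(⟨u₀, hu₀⟩ : O)⟩
  obtain ⟨F, e, he, hFa, hFu⟩ := repWith_inf (pBase_locP Groth.L23.etLocal_unramified) haff hun U₀ x₀
  obtain ⟨W, i, fst, sq, hW⟩ := hFa (Z := U₀) inferInstance (𝟙 _)
  have hU₀ := AlgSp.IsAlgSpace.yon_obj U₀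
  have hi : UnR i.left :=
    prop_of_locP_map (Groth.L23.locP_of_isPullback Groth.L23.etLocal_unramified F.property hU₀ hU₀ sq hFu)
  have : LocallyOfFiniteType i.left := hi.1
  have : FormallyUnramified i.left := hi.2
  obtain ⟨V, o, ho, hne, hfin, het⟩ := exists_open_finite_etale i.left
  let Vs : Over S := Over.mk (o ≫ U₀.hom)
  let oS : Vs ⟶ U₀ := Over.homMk o rfl
  refine ⟨Vs, BasedFunctor.comp (overMap oS) x₀, hne, hres oS x₀ ho hx₀, ?_⟩
  have sqV := ((IsPullback.of_hasPullback i oS).map (AlgSp.yon S)).paste_horiz sq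
  rw [Category.comp_id] at sqV
  have sqS := (IsPullback.of_hasPullback i oS).map (Over.forget S)
  have key : ∀ (P : MorphismProperty Scheme.{u}) [P.RespectsIso], P (pullback.snd i.left o) →
      P (pullback.snd i oS).left := by
    intro P _ h
    have e : (pullback.snd i oS).left = sqS.isoPullback.hom ≫ pullback.snd i.left o := sqS.isoPullback_hom_snd.symm
    rw [e]
    exact (P.cancel_left_of_respectsIso _ _).2 h
  exact wit_restrict he oS sqV (finEt_map _ (key _ hfin) (key _ het))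

/-- Generic finite etale inertia. -/
theorem exists_openImm_inertia [IsLocallyNoetherian S] (hg : FibCat.IsFibGrpd 𝒳.p)
    (hd : RepByAlgSp1 (FibCat.diag (FibCat.toSelf 𝒳))) (ha : HasAtlas AlgSp.IsEtaleMor 𝒳)
    (hft : AlgSt.LocQ (AlgSp.LocP @LocallyOfFiniteType) (FibCat.toSelf 𝒳))
    (hΔ : AlgSt.RepByAlgSpWith AlgSp.IsAffineMor (FibCat.diag (FibCat.toSelf 𝒳)))
    (hred : AlgSt.SmoothLocally (fun T => IsReduced T) 𝒳) [Nonempty (Points 𝒳)] :
    ∃ (𝒰 : AlgSt.Cat S) (j : 𝒰 ⥤ᵇ 𝒳),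
      AlgSt.IsOpenImm j ∧ Nonempty (AlgSt.Points 𝒰) ∧
      AlgSt.RepByAlgSpWith (AlgSp.IsFiniteMor ⊓ AlgSp.IsEtaleMor) (FibCat.inertiaToBase (FibCat.toSelf 𝒰)) := by
  obtain ⟨V, xV, hne, hxV, hV⟩ := exists_chart_finEt hg hd ha hft hΔ hred
  have hI : RepByAlgSp1 (FibCat.inertiaToBase (FibCat.toSelf 𝒳)) := repWith_rep1 (inertia_repWith_of_diag hg hΔ)
  have hsm : HasAtlas (AlgSp.LocP @Smooth) 𝒳 := by
    obtain ⟨U, x, hx, hxs⟩ := ha
    exact ⟨U, x, repWith_mono (fun _ _ _ _ h =>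
      Groth.L23.locP_mono (fun φ (hφ : Etale φ) => have := hφ; (inferInstance : Smooth φ)) h)
      (locP_etale_of_isEtaleMor hx), hxs⟩
  let Q := Sub.Within (Set.range (Points.ofChart xV))
  let j := subIncl 𝒳 Q
  refine ⟨fullSub 𝒳 Q, j, isOpenImm_within_of_atlas hg hsm (isOpen_range_ofChart hg xV hxV), ?_, ?_⟩
  · obtain ⟨v⟩ := hne
    have h : Points.ofChart xV v ∈ Set.range (Points.map j) := by
      rw [Sub.range_within hg]
      exact ⟨v, rfl⟩
    exact ⟨h.choose⟩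
  have : j.toFunctor.Faithful := inferInstanceAs (ObjectProperty.ι _).Faithful
  have hlift : InertiaFin.LiftsAut j := fun u β hβ => by
    obtain ⟨e, he⟩ := hβ.eq
    exact ⟨ObjectProperty.homMk β, OverId.of_eq e he, rfl⟩
  have hcmp := InertiaFin.isEquivOver_inertiaCmp hg j hlift
  refine (repWith_precomp hcmp (FibCat.fpFst j (FibCat.inertiaToBase (FibCat.toSelf 𝒳)))).2 fun T z => ?_
  have hz : Wit FinEt (BasedFunctor.comp z j) (FibCat.inertiaToBase (FibCat.toSelf 𝒳)) :=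
    wit_finEt_of_range hg hI xV hxV hV _ fun t =>
      (Sub.within_chart_iff hg _ (BasedFunctor.comp z j) (idObj T)).1 (z.obj (idObj T)).property t
  obtain ⟨F, e, he, h1, h2⟩ := (Wit.transfer (fpPaste z j (FibCat.inertiaToBase (FibCat.toSelf 𝒳)))
    (fpPaste_isEquivOver z j _) (Iso.refl _)).2 hz
  exact ⟨F, e, he, h1, (Groth.L23.isEtaleMor_iff_locP F.property (AlgSp.IsAlgSpace.yon_obj T) _).2 h2⟩

end Groth.L24.InertiaGen
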