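import Groth.Agent.L20.GenericFlatScheme
import Mathlib.RingTheory.Smooth.Fiber
import Mathlib.RingTheory.Unramified.Finite
import Mathlib.RingTheory.Localization.Free
import Mathlib.AlgebraicGeometry.Morphisms.FormallyUnramified
import Mathlib.AlgebraicGeometry.Morphisms.Etale
import Mathlib.AlgebraicGeometry.Morphisms.Finite
import Mathlib.RingTheory.Ideal.MinimalPrime.Basic

/-!
An unramified affine morphism of finite type over a reduced Noetherian base is finite etale somewhere.
-/

set_option autoImplicit false
set_option backward.isDefEq.respectTransparency false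
set_option backward.isDefEq.respectTransparency.types false

universe u

open CategoryTheory CategoryTheory.Limits AlgebraicGeometry TensorProduct

noncomputable section

namespace Groth.L24.InertiaGen

variable {R A : Type u} [CommRing R] [CommRing A] [Algebra R A]

/-- A module spanned after localisation by a set is spanned by it up to a denominator. -/
theorem exists_smul_mem_span (p : Ideal R) [p.IsPrime] (G : Set A) (y : A)
    (h : (1 : Localization.AtPrime p) ⊗ₜ[R] y ∈
      Submodule.span (Localization.AtPrime p) ((fun a => (1 : Localization.AtPrime p) ⊗ₜ[R] a) '' G)) :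
    ∃ s ∉ p, s • y ∈ Submodule.span R G := by
  let K := Localization.AtPrime p
  let i : A →ₗ[R] K ⊗[R] A := TensorProduct.mk R K A 1
  have : IsLocalizedModule p.primeCompl i :=
    (isLocalizedModule_iff_isBaseChange p.primeCompl K i).2 (TensorProduct.isBaseChange R A K)
  obtain ⟨s, hs⟩ := multiple_mem_span_of_mem_localization_span p.primeCompl K _ _ h
  rw [show ((fun a => (1 : K) ⊗ₜ[R] a) '' G) = i '' G from rfl, Submodule.span_image, Submodule.mem_map] at hs
  obtain ⟨n, hn, hn'⟩ := hs
  have h0 : i (n - (s : R) • y) = 0 := by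
    rw [map_sub, map_smul, sub_eq_zero, hn']
    rfl
  obtain ⟨t, ht⟩ := (IsLocalizedModule.eq_zero_iff p.primeCompl i).1 h0
  refine ⟨t * s, p.primeCompl.mul_mem t.2 s.2, ?_⟩
  rw [smul_sub, sub_eq_zero] at ht
  rw [mul_smul]
  exact ht ▸ Submodule.smul_mem _ _ hn

/-- Over a minimal prime of a reduced Noetherian ring an unramified algebra of finite type becomes finite etale. -/
theorem exists_away_finite_etale [IsNoetherianRing R] [IsReduced R] [Nontrivial R]
    [Algebra.FiniteType R A] [Algebra.FormallyUnramified R A] :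
    ∃ g : R, ¬ IsNilpotent g ∧ Module.Finite (Localization.Away g) (Localization.Away g ⊗[R] A) ∧
      Algebra.Etale (Localization.Away g) (Localization.Away g ⊗[R] A) := by
  classical
  obtain ⟨p, hp⟩ := Ideal.nonempty_minimalPrimes (I := (⊥ : Ideal R)) bot_ne_top
  have := hp.isPrime
  let K := Localization.AtPrime p
  have : Ring.KrullDimLE 0 K := Ring.KrullDimLE.mk₀ fun J hJ => by
    have hle : J.under R ≤ p := by
      refine le_trans (Ideal.comap_mono (IsLocalRing.le_maximalIdeal hJ.ne_top)) ?_
      exact le_of_eq (IsLocalization.AtPrime.comap_maximalIdeal K p)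
    have heq : J = IsLocalRing.maximalIdeal K := by
      rw [← IsLocalization.map_comap p.primeCompl K J,
        le_antisymm hle (hp.2 ⟨hJ.comap _, bot_le⟩ hle), IsLocalization.AtPrime.map_eq_maximalIdeal]
    exact heq ▸ IsLocalRing.maximalIdeal.isMaximal K
  have : IsField K := Ring.KrullDimLE.isField_of_isReduced
  let _ : Field K := this.toField
  have hKfin : Module.Finite K (K ⊗[R] A) := Algebra.FormallyUnramified.finite_of_free K _
  -- a finite set spanning after localisation, containing `1`
  obtain ⟨G, hG1, hG⟩ : ∃ G : Finset A, (1 : A) ∈ G ∧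
      Submodule.span K ((fun a => (1 : K) ⊗ₜ[R] a) '' (G : Set A)) = ⊤ := by
    obtain ⟨b, hb⟩ := hKfin.1
    have hex : ∀ z : K ⊗[R] A, ∃ T : Finset A, z ∈ Submodule.span K ((fun a => (1 : K) ⊗ₜ[R] a) '' (T : Set A)) := by
      intro z
      induction z with
      | zero => exact ⟨∅, Submodule.zero_mem _⟩
      | tmul k a => exact ⟨{a}, by
          rw [show k ⊗ₜ[R] a = k • ((1 : K) ⊗ₜ[R] a) by rw [TensorProduct.smul_tmul', smul_eq_mul, mul_one]]
          exact Submodule.smul_mem _ _ (Submodule.subset_span ⟨a, by simp, rfl⟩)⟩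
      | add z w hz hw =>
        obtain ⟨T, hT⟩ := hz
        obtain ⟨T', hT'⟩ := hw
        exact ⟨T ∪ T', Submodule.add_mem _
          (Submodule.span_mono (Set.image_mono (Finset.coe_subset.2 Finset.subset_union_left)) hT)
          (Submodule.span_mono (Set.image_mono (Finset.coe_subset.2 Finset.subset_union_right)) hT')⟩
    choose T hT using hex
    refine ⟨insert 1 (b.biUnion T), Finset.mem_insert_self _ _, top_le_iff.1 (hb ▸ Submodule.span_le.2 fun z hz => ?_)⟩
    exact Submodule.span_mono (Set.image_mono (Finset.coe_subset.2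
      ((Finset.subset_biUnion_of_mem T hz).trans (Finset.subset_insert _ _)))) (hT z)
  let N := Submodule.span R (G : Set A)
  -- one denominator making the span stable under the generators
  obtain ⟨gens, hgens⟩ := Algebra.FiniteType.out (R := R) (A := A)
  choose s hsp hs using fun y : A => exists_smul_mem_span p (G : Set A) y (by rw [hG]; trivial)
  let f := (∏ x ∈ gens ×ˢ G, s (x.1 * x.2)) * s 1
  have hf : f ∉ p := p.primeCompl.mul_mem (prod_mem fun x _ => hsp _) (hsp 1)
  have hstab : ∀ x ∈ gens, ∀ n ∈ N, f • (x * n) ∈ N := by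
    intro x hx n hn
    induction hn using Submodule.span_induction with
    | mem g hg =>
      obtain ⟨c, hc⟩ : s (x * g) ∣ f :=
        (Finset.dvd_prod_of_mem (fun x => s (x.1 * x.2)) (Finset.mk_mem_product hx hg)).trans (Dvd.intro _ rfl)
      rw [hc, mul_comm, mul_smul]
      exact N.smul_mem _ (hs _)
    | zero => simp
    | add a b _ _ ha hb => rw [mul_add, smul_add]; exact N.add_mem ha hb
    | smul r a _ ha => rw [mul_smul_comm, smul_comm]; exact N.smul_mem _ ha
  -- the span is the whole algebra away from `f`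
  have hall : ∀ a : A, ∃ k : ℕ, f ^ k • a ∈ N := by
    intro a
    have ha : a ∈ Algebra.adjoin R (gens : Set A) := hgens ▸ Algebra.mem_top
    suffices ∀ n ∈ N, ∃ k : ℕ, f ^ k • (a * n) ∈ N by simpa using this 1 (Submodule.subset_span hG1)
    induction ha using Algebra.adjoin_induction with
    | mem x hx => exact fun n hn => ⟨1, by rw [pow_one]; exact hstab x hx n hn⟩
    | algebraMap r => exact fun n hn => ⟨0, by rw [pow_zero, one_smul, ← Algebra.smul_def]; exact N.smul_mem _ hn⟩
    | add a b _ _ ha hb =>
      intro n hn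
      obtain ⟨k, hk⟩ := ha n hn
      obtain ⟨l, hl⟩ := hb n hn
      refine ⟨k + l, ?_⟩
      rw [add_mul, smul_add]
      refine N.add_mem ?_ ?_
      · rw [pow_add, mul_comm, mul_smul]; exact N.smul_mem _ hk
      · rw [pow_add, mul_smul]; exact N.smul_mem _ hl
    | mul a b _ _ ha hb =>
      intro n hn
      obtain ⟨l, hl⟩ := hb n hn
      obtain ⟨k, hk⟩ := ha _ hl
      refine ⟨k + l, ?_⟩
      rwa [pow_add, mul_smul, mul_assoc, ← mul_smul_comm]
  have : Module.Finite R N := Module.Finite.iff_fg.2 ⟨G, rfl⟩
  have : Module.FinitePresentation R N := Module.finitePresentation_of_finite R N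
  obtain ⟨r, hr, hrfree, -⟩ := Module.FinitePresentation.exists_free_localizedModule_powers p.primeCompl
    (TensorProduct.mk R K N 1) K (M := N) (M' := K ⊗[R] N)
  refine ⟨f * r, fun hn => p.primeCompl.mul_mem hf hr (nilradical_le_prime p hn), ?_⟩
  let Q := Localization.Away (f * r)
  have hu : IsUnit (algebraMap R Q f) ∧ IsUnit (algebraMap R Q r) := by
    have := IsLocalization.Away.algebraMap_isUnit (S := Q) (f * r)
    rwa [map_mul, IsUnit.mul_iff] at this
  let ι : Q ⊗[R] N →ₗ[Q] Q ⊗[R] A := AlgebraTensorModule.map LinearMap.id N.subtype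
  have hιi : Function.Injective ι := Module.Flat.lTensor_preserves_injective_linearMap N.subtype Subtype.val_injective
  have hιs : Function.Surjective ι := by
    intro z
    induction z with
    | zero => exact ⟨0, map_zero _⟩
    | tmul q a =>
      obtain ⟨k, hk⟩ := hall a
      refine ⟨(q * ((hu.1.pow k).unit⁻¹ : Qˣ).1) ⊗ₜ ⟨_, hk⟩, ?_⟩
      show (q * _) ⊗ₜ[R] (f ^ k • a) = _
      rw [← TensorProduct.smul_tmul, Algebra.smul_def, map_pow, mul_left_comm, IsUnit.mul_val_inv, mul_one]
    | add z w hz hw =>
      obtain ⟨z', rfl⟩ := hz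
      obtain ⟨w', rfl⟩ := hw
      exact ⟨z' + w', map_add _ _ _⟩
  let e : Q ⊗[R] N ≃ₗ[Q] Q ⊗[R] A := LinearEquiv.ofBijective ι ⟨hιi, hιs⟩
  have : Module.Free (Localization.Away r) (Localization.Away r ⊗[R] N) :=
    Module.Free.of_equiv (LocalizedModule.equivTensorProduct (.powers r) N)
  have : Module.Free Q (Q ⊗[R] N) := Groth.L20.GF.free_of_isUnit _ hu.2 N
  have : Module.Free Q (Q ⊗[R] A) := Module.Free.of_equiv e
  have hfin : Module.Finite Q (Q ⊗[R] A) := Module.Finite.equiv e
  have : Algebra.FinitePresentation Q (Q ⊗[R] A) := Algebra.FinitePresentation.of_finiteType.1 inferInstance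
  exact ⟨hfin, Algebra.Etale.of_formallyUnramified_of_flat⟩

/-- An unramified affine morphism of finite type to a reduced Noetherian affine scheme is finite etale
over a non-empty open. -/
theorem exists_open_finite_etale {W U : Scheme.{u}} (i : W ⟶ U) [IsAffine W] [IsAffine U] [IsReduced U]
    [IsLocallyNoetherian U] [Nonempty U] [LocallyOfFiniteType i] [FormallyUnramified i] :
    ∃ (V : Scheme.{u}) (o : V ⟶ U), IsOpenImmersion o ∧ Nonempty V ∧
      IsFinite (pullback.snd i o) ∧ Etale (pullback.snd i o) := by
  let R := Γ(U, ⊤)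
  let A := Γ(W, ⊤)
  have : IsNoetherianRing R := IsLocallyNoetherian.component_noetherian (X := U) ⟨⊤, isAffineOpen_top U⟩
  have : _root_.IsReduced R := IsReduced.component_reduced ⊤
  have : Nontrivial R := by
    rw [← PrimeSpectrum.nonempty_iff_nontrivial]
    exact Nonempty.map U.isoSpec.hom inferInstance
  algebraize [i.appTop.hom]
  have : Algebra.FiniteType R A := (HasRingHomProperty.appTop @LocallyOfFiniteType i inferInstance :)
  have : Algebra.FormallyUnramified R A :=
    RingHom.formallyUnramified_algebraMap.1 (HasRingHomProperty.appTop @FormallyUnramified i inferInstance :)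
  obtain ⟨g, hg, hfin, het⟩ := exists_away_finite_etale (R := R) (A := A)
  let Q := Localization.Away g
  let j : Spec (.of Q) ⟶ Spec (.of R) := Spec.map (CommRingCat.ofHom (algebraMap R Q))
  have : IsOpenImmersion j := IsOpenImmersion.of_isLocalization g
  refine ⟨Spec (.of Q), j ≫ U.isoSpec.inv, inferInstance, ?_, ?_⟩
  · have : Nontrivial Q := not_subsingleton_iff_nontrivial.1 fun _ =>
      hg ((IsLocalization.subsingleton_iff (M := Submonoid.powers g) (S := Q)).1 inferInstance)
    exact inferInstanceAs (Nonempty (PrimeSpectrum Q))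
  let i' : Spec (.of A) ⟶ Spec (.of R) := Spec.map (CommRingCat.ofHom (algebraMap R A))
  have hi : i' ≫ U.isoSpec.inv = W.isoSpec.inv ≫ i := Scheme.isoSpec_inv_naturality i
  have sq : IsPullback (pullback.fst i' j ≫ W.isoSpec.inv) (pullback.snd i' j) i (j ≫ U.isoSpec.inv) :=
    (IsPullback.of_hasPullback i' j).paste_horiz (IsPullback.of_horiz_isIso ⟨hi.symm⟩)
  have key : ∀ (P : MorphismProperty Scheme.{u}) [P.RespectsIso],
      P (Spec.map (CommRingCat.ofHom (algebraMap Q (Q ⊗[R] A)))) → P (pullback.snd i (j ≫ U.isoSpec.inv)) := by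
    intro P _ h
    have h1 : P (pullback.fst j i') := by
      rw [← P.cancel_left_of_respectsIso (pullbackSpecIso R Q A).inv]
      rwa [pullbackSpecIso_inv_fst']
    rw [← P.cancel_left_of_respectsIso sq.isoPullback.hom, sq.isoPullback_hom_snd,
      ← P.cancel_left_of_respectsIso (pullbackSymmetry j i').hom, pullbackSymmetry_hom_comp_snd]
    exact h1
  exact ⟨key _ ((IsFinite.SpecMap_iff _).2 (RingHom.finite_algebraMap.2 hfin)),
    key _ ((HasRingHomProperty.Spec_iff (P := @Etale)).2 (RingHom.etale_algebraMap.2 het))⟩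

end Groth.L24.InertiaGen
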